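import Cfsg.Agent.H15.MatAut

/-! The orbit of fifty vectors and three elements of its stabiliser. -/

set_option autoImplicit false

namespace Cfsg.Agent.H15.U35

/-- Generator 0. -/
def gen0 : Mat where
  cols := [[5, 1, 1, 1, 1, 1, 1, 1, 1, 1, 1, 1, 1, 1, 1, -3, 1, 1, 1, 1, 1, 1, 1, -3],
    [1, -3, 1, 1, 1, 1, -3, 1, 1, 1, 1, -3, 1, 1, -3, 1, -3, 1, 1, 1, 1, 1, 1, 1],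
    [1, 1, -3, 1, 1, 1, -3, 1, -3, 1, 1, 1, 1, 1, 1, 1, 1, -3, 1, 1, 1, 1, -3, 1],
    [1, 1, -3, -3, 1, 1, 1, -3, 1, 1, 1, -3, 1, -3, 1, 1, 1, 1, 1, 1, 1, 1, 1, 1],
    [1, 1, 1, 1, -3, 1, -3, 1, 1, 1, 1, 1, 1, -3, 1, 1, 1, 1, 1, 1, -3, -3, 1, 1],
    [1, 1, 1, 1, 1, -3, 1, 1, 1, 1, -3, 1, 1, -3, -3, 1, 1, 1, 1, 1, 1, 1, -3, 1],
    [1, 1, 1, 1, 1, -3, 1, 1, 1, 1, 1, -3, -3, 1, 1, 1, 1, -3, 1, 1, -3, 1, 1, 1],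
    [1, 1, -3, 1, 1, -3, 1, 1, 1, 1, 1, 1, 1, 1, 1, 1, -3, 1, -3, 1, 1, -3, 1, 1],
    [1, 1, 1, 1, -3, 1, 1, 1, 1, -3, 1, -3, 1, 1, 1, 1, 1, 1, -3, 1, 1, 1, -3, 1],
    [1, 1, 1, 1, 1, 1, 1, -3, 1, -3, 1, 1, 1, 1, -3, 1, 1, -3, 1, 1, 1, -3, 1, 1],
    [1, 1, 1, 1, 1, 1, 1, 1, -3, 1, -3, -3, 1, 1, 1, 1, 1, 1, 1, -3, 1, -3, 1, 1],
    [1, 1, -3, 1, -3, 1, 1, 1, 1, 1, 1, 1, -3, 1, -3, 1, 1, 1, 1, -3, 1, 1, 1, 1],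
    [1, 1, 1, 1, 1, 1, 1, 1, -3, -3, 1, 1, -3, -3, 1, 1, -3, 1, 1, 1, 1, 1, 1, 1],
    [-3, 1, 1, 1, 1, 1, 1, 1, 1, 1, 1, 1, 1, 1, 1, 5, 1, 1, 1, 1, 1, 1, 1, -3],
    [1, 1, 1, -3, -3, 1, 1, 1, 1, 1, -3, 1, 1, 1, 1, 1, -3, -3, 1, 1, 1, 1, 1, 1],
    [1, -3, -3, 1, 1, 1, 1, 1, 1, -3, -3, 1, 1, 1, 1, 1, 1, 1, 1, 1, -3, 1, 1, 1],
    [1, 1, 1, -3, 1, -3, -3, 1, 1, -3, 1, 1, 1, 1, 1, 1, 1, 1, 1, -3, 1, 1, 1, 1],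
    [1, -3, 1, 1, -3, -3, 1, -3, -3, 1, 1, 1, 1, 1, 1, 1, 1, 1, 1, 1, 1, 1, 1, 1],
    [1, -3, 1, 1, 1, 1, 1, 1, 1, 1, 1, 1, 1, -3, 1, 1, 1, -3, -3, -3, 1, 1, 1, 1],
    [1, -3, 1, -3, 1, 1, 1, 1, 1, 1, 1, 1, -3, 1, 1, 1, 1, 1, 1, 1, 1, -3, -3, 1],
    [1, 1, 1, 1, 1, 1, 1, -3, 1, 1, 1, 1, 1, 1, 1, 1, -3, 1, 1, -3, -3, 1, -3, 1],
    [1, 1, 1, -3, 1, 1, 1, 1, -3, 1, 1, 1, 1, 1, -3, 1, 1, 1, -3, 1, -3, 1, 1, 1],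
    [1, 1, 1, 1, 1, 1, -3, -3, 1, 1, -3, 1, -3, 1, 1, 1, 1, 1, -3, 1, 1, 1, 1, 1],
    [-3, 1, 1, 1, 1, 1, 1, 1, 1, 1, 1, 1, 1, 1, 1, -3, 1, 1, 1, 1, 1, 1, 1, 5]]
  rows := [[5, 1, 1, 1, 1, 1, 1, 1, 1, 1, 1, 1, 1, -3, 1, 1, 1, 1, 1, 1, 1, 1, 1, -3],
    [1, -3, 1, 1, 1, 1, 1, 1, 1, 1, 1, 1, 1, 1, 1, -3, 1, -3, -3, -3, 1, 1, 1, 1],
    [1, 1, -3, -3, 1, 1, 1, -3, 1, 1, 1, -3, 1, 1, 1, -3, 1, 1, 1, 1, 1, 1, 1, 1],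
    [1, 1, 1, -3, 1, 1, 1, 1, 1, 1, 1, 1, 1, 1, -3, 1, -3, 1, 1, -3, 1, -3, 1, 1],
    [1, 1, 1, 1, -3, 1, 1, 1, -3, 1, 1, -3, 1, 1, -3, 1, 1, -3, 1, 1, 1, 1, 1, 1],
    [1, 1, 1, 1, 1, -3, -3, -3, 1, 1, 1, 1, 1, 1, 1, 1, -3, -3, 1, 1, 1, 1, 1, 1],
    [1, -3, -3, 1, -3, 1, 1, 1, 1, 1, 1, 1, 1, 1, 1, 1, -3, 1, 1, 1, 1, 1, -3, 1],
    [1, 1, 1, -3, 1, 1, 1, 1, 1, -3, 1, 1, 1, 1, 1, 1, 1, -3, 1, 1, -3, 1, -3, 1],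
    [1, 1, -3, 1, 1, 1, 1, 1, 1, 1, -3, 1, -3, 1, 1, 1, 1, -3, 1, 1, 1, -3, 1, 1],
    [1, 1, 1, 1, 1, 1, 1, 1, -3, -3, 1, 1, -3, 1, 1, -3, -3, 1, 1, 1, 1, 1, 1, 1],
    [1, 1, 1, 1, 1, -3, 1, 1, 1, 1, -3, 1, 1, 1, -3, -3, 1, 1, 1, 1, 1, 1, -3, 1],
    [1, -3, 1, -3, 1, 1, -3, 1, -3, 1, -3, 1, 1, 1, 1, 1, 1, 1, 1, 1, 1, 1, 1, 1],
    [1, 1, 1, 1, 1, 1, -3, 1, 1, 1, 1, -3, -3, 1, 1, 1, 1, 1, 1, -3, 1, 1, -3, 1],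
    [1, 1, 1, -3, -3, -3, 1, 1, 1, 1, 1, 1, -3, 1, 1, 1, 1, 1, -3, 1, 1, 1, 1, 1],
    [1, -3, 1, 1, 1, -3, 1, 1, 1, -3, 1, -3, 1, 1, 1, 1, 1, 1, 1, 1, 1, -3, 1, 1],
    [-3, 1, 1, 1, 1, 1, 1, 1, 1, 1, 1, 1, 1, 5, 1, 1, 1, 1, 1, 1, 1, 1, 1, -3],
    [1, -3, 1, 1, 1, 1, 1, -3, 1, 1, 1, 1, -3, 1, -3, 1, 1, 1, 1, 1, -3, 1, 1, 1],
    [1, 1, -3, 1, 1, 1, -3, 1, 1, -3, 1, 1, 1, 1, -3, 1, 1, 1, -3, 1, 1, 1, 1, 1],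
    [1, 1, 1, 1, 1, 1, 1, -3, -3, 1, 1, 1, 1, 1, 1, 1, 1, 1, -3, 1, 1, -3, -3, 1],
    [1, 1, 1, 1, 1, 1, 1, 1, 1, 1, -3, -3, 1, 1, 1, 1, -3, 1, -3, 1, -3, 1, 1, 1],
    [1, 1, 1, 1, -3, 1, -3, 1, 1, 1, 1, 1, 1, 1, 1, -3, 1, 1, 1, 1, -3, -3, 1, 1],
    [1, 1, 1, 1, -3, 1, 1, -3, 1, -3, -3, 1, 1, 1, 1, 1, 1, 1, 1, -3, 1, 1, 1, 1],
    [1, 1, -3, 1, 1, -3, 1, 1, -3, 1, 1, 1, 1, 1, 1, 1, 1, 1, 1, -3, -3, 1, 1, 1],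
    [-3, 1, 1, 1, 1, 1, 1, 1, 1, 1, 1, 1, 1, -3, 1, 1, 1, 1, 1, 1, 1, 1, 1, 5]]

theorem gen0_ok : gen0.ok = true := by decide +kernel

/-- Generator 1. -/
def gen1 : Mat where
  cols := [[5, 1, 1, 1, 1, 1, 1, 1, 1, 1, 1, 1, 1, 1, 1, 1, -3, 1, 1, 1, 1, 1, 1, -3],
    [1, 1, 1, 1, -3, 1, 1, -3, 1, 1, 1, -3, -3, 1, 1, 1, 1, 1, 1, 1, 1, -3, 1, 1],
    [1, -3, -3, 1, -3, 1, 1, 1, 1, 1, 1, 1, 1, -3, 1, 1, 1, 1, 1, 1, 1, 1, -3, 1],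
    [1, 1, 1, 1, 1, 1, 1, 1, -3, -3, 1, 1, -3, -3, 1, -3, 1, 1, 1, 1, 1, 1, 1, 1],
    [1, 1, 1, -3, -3, 1, 1, 1, 1, 1, -3, 1, 1, 1, 1, -3, 1, -3, 1, 1, 1, 1, 1, 1],
    [1, 1, 1, -3, 1, -3, 1, 1, -3, 1, 1, -3, 1, 1, 1, 1, 1, 1, 1, 1, 1, 1, -3, 1],
    [1, -3, 1, 1, 1, 1, -3, 1, 1, 1, 1, -3, 1, 1, -3, -3, 1, 1, 1, 1, 1, 1, 1, 1],
    [1, 1, 1, 1, 1, 1, 1, -3, 1, 1, 1, 1, 1, 1, 1, -3, 1, 1, 1, -3, -3, 1, -3, 1],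
    [1, -3, 1, 1, 1, 1, 1, 1, -3, 1, 1, 1, 1, 1, 1, 1, 1, -3, 1, 1, -3, -3, 1, 1],
    [1, 1, 1, 1, 1, 1, -3, 1, 1, -3, -3, 1, 1, 1, 1, 1, 1, 1, 1, 1, 1, -3, -3, 1],
    [1, 1, 1, 1, 1, -3, -3, -3, 1, 1, 1, 1, 1, -3, 1, 1, 1, -3, 1, 1, 1, 1, 1, 1],
    [1, 1, -3, 1, 1, 1, 1, -3, -3, 1, -3, 1, 1, 1, -3, 1, 1, 1, 1, 1, 1, 1, 1, 1],
    [1, 1, 1, 1, 1, 1, 1, 1, 1, 1, 1, 1, -3, 1, -3, 1, 1, -3, -3, 1, 1, 1, -3, 1],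
    [1, 1, 1, 1, -3, -3, 1, 1, 1, -3, 1, 1, 1, 1, -3, 1, 1, 1, 1, 1, -3, 1, 1, 1],
    [1, 1, -3, 1, 1, -3, 1, 1, 1, 1, 1, 1, 1, 1, 1, -3, 1, 1, -3, 1, 1, -3, 1, 1],
    [1, -3, 1, 1, 1, -3, 1, 1, 1, 1, -3, 1, -3, 1, 1, 1, 1, 1, 1, -3, 1, 1, 1, 1],
    [1, 1, 1, 1, -3, 1, -3, 1, -3, 1, 1, 1, 1, 1, 1, 1, 1, 1, -3, -3, 1, 1, 1, 1],
    [1, -3, 1, -3, 1, 1, 1, -3, 1, -3, 1, 1, 1, 1, 1, 1, 1, 1, -3, 1, 1, 1, 1, 1],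
    [1, 1, 1, 1, 1, 1, 1, 1, 1, 1, -3, -3, 1, -3, 1, 1, 1, 1, -3, 1, -3, 1, 1, 1],
    [1, 1, 1, -3, 1, 1, 1, 1, 1, 1, 1, 1, 1, -3, -3, 1, 1, 1, 1, -3, 1, -3, 1, 1],
    [1, 1, -3, 1, 1, 1, 1, 1, 1, -3, 1, -3, 1, 1, 1, 1, 1, -3, 1, -3, 1, 1, 1, 1],
    [1, 1, -3, -3, 1, 1, -3, 1, 1, 1, 1, 1, -3, 1, 1, 1, 1, 1, 1, 1, -3, 1, 1, 1],
    [-3, 1, 1, 1, 1, 1, 1, 1, 1, 1, 1, 1, 1, 1, 1, 1, 5, 1, 1, 1, 1, 1, 1, -3],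
    [-3, 1, 1, 1, 1, 1, 1, 1, 1, 1, 1, 1, 1, 1, 1, 1, -3, 1, 1, 1, 1, 1, 1, 5]]
  rows := [[5, 1, 1, 1, 1, 1, 1, 1, 1, 1, 1, 1, 1, 1, 1, 1, 1, 1, 1, 1, 1, 1, -3, -3],
    [1, 1, -3, 1, 1, 1, -3, 1, -3, 1, 1, 1, 1, 1, 1, -3, 1, -3, 1, 1, 1, 1, 1, 1],
    [1, 1, -3, 1, 1, 1, 1, 1, 1, 1, 1, -3, 1, 1, -3, 1, 1, 1, 1, 1, -3, -3, 1, 1],
    [1, 1, 1, 1, -3, -3, 1, 1, 1, 1, 1, 1, 1, 1, 1, 1, 1, -3, 1, -3, 1, -3, 1, 1],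
    [1, -3, -3, 1, -3, 1, 1, 1, 1, 1, 1, 1, 1, -3, 1, 1, -3, 1, 1, 1, 1, 1, 1, 1],
    [1, 1, 1, 1, 1, -3, 1, 1, 1, 1, -3, 1, 1, -3, -3, -3, 1, 1, 1, 1, 1, 1, 1, 1],
    [1, 1, 1, 1, 1, 1, -3, 1, 1, -3, -3, 1, 1, 1, 1, 1, -3, 1, 1, 1, 1, -3, 1, 1],
    [1, -3, 1, 1, 1, 1, 1, -3, 1, 1, -3, -3, 1, 1, 1, 1, 1, -3, 1, 1, 1, 1, 1, 1],
    [1, 1, 1, -3, 1, -3, 1, 1, -3, 1, 1, -3, 1, 1, 1, 1, -3, 1, 1, 1, 1, 1, 1, 1],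
    [1, 1, 1, -3, 1, 1, 1, 1, 1, -3, 1, 1, 1, -3, 1, 1, 1, -3, 1, 1, -3, 1, 1, 1],
    [1, 1, 1, 1, -3, 1, 1, 1, 1, -3, 1, -3, 1, 1, 1, -3, 1, 1, -3, 1, 1, 1, 1, 1],
    [1, -3, 1, 1, 1, -3, -3, 1, 1, 1, 1, 1, 1, 1, 1, 1, 1, 1, -3, 1, -3, 1, 1, 1],
    [1, -3, 1, -3, 1, 1, 1, 1, 1, 1, 1, 1, -3, 1, 1, -3, 1, 1, 1, 1, 1, -3, 1, 1],
    [1, 1, -3, -3, 1, 1, 1, 1, 1, 1, -3, 1, 1, 1, 1, 1, 1, 1, -3, -3, 1, 1, 1, 1],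
    [1, 1, 1, 1, 1, 1, -3, 1, 1, 1, 1, -3, -3, -3, 1, 1, 1, 1, 1, -3, 1, 1, 1, 1],
    [1, 1, 1, -3, -3, 1, -3, -3, 1, 1, 1, 1, 1, 1, -3, 1, 1, 1, 1, 1, 1, 1, 1, 1],
    [-3, 1, 1, 1, 1, 1, 1, 1, 1, 1, 1, 1, 1, 1, 1, 1, 1, 1, 1, 1, 1, 1, 5, -3],
    [1, 1, 1, 1, -3, 1, 1, 1, -3, 1, -3, 1, -3, 1, 1, 1, 1, 1, 1, 1, -3, 1, 1, 1],
    [1, 1, 1, 1, 1, 1, 1, 1, 1, 1, 1, 1, -3, 1, -3, 1, -3, -3, -3, 1, 1, 1, 1, 1],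
    [1, 1, 1, 1, 1, 1, 1, -3, 1, 1, 1, 1, 1, 1, 1, -3, -3, 1, 1, -3, -3, 1, 1, 1],
    [1, 1, 1, 1, 1, 1, 1, -3, -3, 1, 1, 1, 1, -3, 1, 1, 1, 1, -3, 1, 1, -3, 1, 1],
    [1, -3, 1, 1, 1, 1, 1, 1, -3, -3, 1, 1, 1, 1, -3, 1, 1, 1, 1, -3, 1, 1, 1, 1],
    [1, 1, -3, 1, 1, -3, 1, -3, 1, -3, 1, 1, -3, 1, 1, 1, 1, 1, 1, 1, 1, 1, 1, 1],
    [-3, 1, 1, 1, 1, 1, 1, 1, 1, 1, 1, 1, 1, 1, 1, 1, 1, 1, 1, 1, 1, 1, -3, 5]]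

theorem gen1_ok : gen1.ok = true := by decide +kernel

/-- Generator 2. -/
def gen2 : Mat where
  cols := [[6, 0, 0, 0, 2, 0, 0, 0, 2, 0, 2, 0, 2, 0, 0, 0, 0, 0, 0, 0, 2, 0, 2, -2],
    [0, -2, 2, 2, 0, 2, -2, 2, 0, 2, 0, -2, 0, 2, -2, -2, -2, 2, 2, 2, 0, 2, 0, 0],
    [2, 0, 0, 0, 6, 0, 0, 0, -2, 0, -2, 0, -2, 0, 0, 0, 0, 0, 0, 0, -2, 0, -2, 2],
    [0, 2, 2, -2, 0, 2, -2, 2, 0, 2, 0, -2, 0, 2, 2, 2, 2, -2, -2, 2, 0, -2, 0, 0],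
    [0, 2, -2, -2, 0, 2, 2, -2, 0, 2, 0, -2, 0, -2, 2, -2, 2, 2, 2, 2, 0, 2, 0, 0],
    [0, 2, -2, 2, 0, -2, 2, 2, 0, 2, 0, 2, 0, 2, 2, -2, -2, 2, -2, 2, 0, -2, 0, 0],
    [2, 0, 0, 0, -2, 0, 0, 0, -2, 0, -2, 0, 6, 0, 0, 0, 0, 0, 0, 0, -2, 0, -2, 2],
    [0, 2, 2, 2, 0, 2, 2, -2, 0, -2, 0, 2, 0, 2, -2, -2, 2, -2, 2, 2, 0, -2, 0, 0],
    [0, -2, 2, 2, 0, 2, 2, 2, 0, 2, 0, 2, 0, -2, 2, -2, 2, -2, -2, -2, 0, 2, 0, 0],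
    [2, 0, 0, 0, -2, 0, 0, 0, -2, 0, -2, 0, -2, 0, 0, 0, 0, 0, 0, 0, 6, 0, -2, 2],
    [0, 2, 2, -2, 0, 2, 2, 2, 0, 2, 0, 2, 0, -2, -2, 2, -2, 2, 2, -2, 0, -2, 0, 0],
    [0, 2, 2, 2, 0, -2, 2, -2, 0, 2, 0, -2, 0, 2, -2, 2, 2, 2, -2, -2, 0, 2, 0, 0],
    [0, 2, 2, 2, 0, -2, -2, -2, 0, 2, 0, 2, 0, -2, 2, 2, -2, -2, 2, 2, 0, 2, 0, 0],
    [2, 0, 0, 0, -2, 0, 0, 0, -2, 0, -2, 0, -2, 0, 0, 0, 0, 0, 0, 0, -2, 0, 6, 2],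
    [2, 0, 0, 0, -2, 0, 0, 0, -2, 0, 6, 0, -2, 0, 0, 0, 0, 0, 0, 0, -2, 0, -2, 2],
    [0, 2, 2, -2, 0, -2, -2, 2, 0, -2, 0, 2, 0, 2, 2, -2, 2, 2, 2, -2, 0, 2, 0, 0],
    [0, -2, 2, -2, 0, 2, 2, -2, 0, -2, 0, 2, 0, 2, 2, 2, -2, 2, -2, 2, 0, 2, 0, 0],
    [0, -2, -2, -2, 0, -2, 2, 2, 0, 2, 0, 2, 0, 2, -2, 2, 2, -2, 2, 2, 0, 2, 0, 0],
    [2, 0, 0, 0, -2, 0, 0, 0, 6, 0, -2, 0, -2, 0, 0, 0, 0, 0, 0, 0, -2, 0, -2, 2],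
    [0, 2, -2, 2, 0, 2, 2, 2, 0, -2, 0, -2, 0, 2, 2, 2, -2, -2, 2, -2, 0, 2, 0, 0],
    [0, -2, 2, 2, 0, -2, 2, 2, 0, -2, 0, -2, 0, -2, 2, 2, 2, 2, 2, 2, 0, -2, 0, 0],
    [0, -2, -2, 2, 0, 2, -2, -2, 0, 2, 0, 2, 0, 2, 2, 2, 2, 2, 2, -2, 0, -2, 0, 0],
    [0, 2, -2, 2, 0, 2, -2, 2, 0, -2, 0, 2, 0, -2, -2, 2, 2, 2, -2, 2, 0, 2, 0, 0],
    [-2, 0, 0, 0, 2, 0, 0, 0, 2, 0, 2, 0, 2, 0, 0, 0, 0, 0, 0, 0, 2, 0, 2, 6]]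
  rows := [[6, 0, 2, 0, 0, 0, 2, 0, 0, 2, 0, 0, 0, 2, 2, 0, 0, 0, 2, 0, 0, 0, 0, -2],
    [0, -2, 0, 2, 2, 2, 0, 2, -2, 0, 2, 2, 2, 0, 0, 2, -2, -2, 0, 2, -2, -2, 2, 0],
    [0, 2, 0, 2, -2, -2, 0, 2, 2, 0, 2, 2, 2, 0, 0, 2, 2, -2, 0, -2, 2, -2, -2, 0],
    [0, 2, 0, -2, -2, 2, 0, 2, 2, 0, -2, 2, 2, 0, 0, -2, -2, -2, 0, 2, 2, 2, 2, 0],
    [2, 0, 6, 0, 0, 0, -2, 0, 0, -2, 0, 0, 0, -2, -2, 0, 0, 0, -2, 0, 0, 0, 0, 2],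
    [0, 2, 0, 2, 2, -2, 0, 2, 2, 0, 2, -2, -2, 0, 0, -2, 2, -2, 0, 2, -2, 2, 2, 0],
    [0, -2, 0, -2, 2, 2, 0, 2, 2, 0, 2, 2, -2, 0, 0, -2, 2, 2, 0, 2, 2, -2, -2, 0],
    [0, 2, 0, 2, -2, 2, 0, -2, 2, 0, 2, -2, -2, 0, 0, 2, -2, 2, 0, 2, 2, -2, 2, 0],
    [2, 0, -2, 0, 0, 0, -2, 0, 0, -2, 0, 0, 0, -2, -2, 0, 0, 0, 6, 0, 0, 0, 0, 2],
    [0, 2, 0, 2, 2, 2, 0, -2, 2, 0, 2, 2, 2, 0, 0, -2, -2, 2, 0, -2, -2, 2, -2, 0],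
    [2, 0, -2, 0, 0, 0, -2, 0, 0, -2, 0, 0, 0, -2, 6, 0, 0, 0, -2, 0, 0, 0, 0, 2],
    [0, -2, 0, -2, -2, 2, 0, 2, 2, 0, 2, -2, 2, 0, 0, 2, 2, 2, 0, -2, -2, 2, 2, 0],
    [2, 0, -2, 0, 0, 0, 6, 0, 0, -2, 0, 0, 0, -2, -2, 0, 0, 0, -2, 0, 0, 0, 0, 2],
    [0, 2, 0, 2, -2, 2, 0, 2, -2, 0, -2, 2, -2, 0, 0, 2, 2, 2, 0, 2, -2, 2, -2, 0],
    [0, -2, 0, 2, 2, 2, 0, -2, 2, 0, -2, -2, 2, 0, 0, 2, 2, -2, 0, 2, 2, 2, -2, 0],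
    [0, -2, 0, 2, -2, -2, 0, -2, -2, 0, 2, 2, 2, 0, 0, -2, 2, 2, 0, 2, 2, 2, 2, 0],
    [0, -2, 0, 2, 2, -2, 0, 2, 2, 0, -2, 2, -2, 0, 0, 2, -2, 2, 0, -2, 2, 2, 2, 0],
    [0, 2, 0, -2, 2, 2, 0, -2, -2, 0, 2, 2, -2, 0, 0, 2, 2, -2, 0, -2, 2, 2, 2, 0],
    [0, 2, 0, -2, 2, -2, 0, 2, -2, 0, 2, -2, 2, 0, 0, 2, -2, 2, 0, 2, 2, 2, -2, 0],
    [0, 2, 0, 2, 2, 2, 0, 2, -2, 0, -2, -2, 2, 0, 0, -2, 2, 2, 0, -2, 2, -2, 2, 0],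
    [2, 0, -2, 0, 0, 0, -2, 0, 0, 6, 0, 0, 0, -2, -2, 0, 0, 0, -2, 0, 0, 0, 0, 2],
    [0, 2, 0, -2, 2, -2, 0, -2, 2, 0, -2, 2, 2, 0, 0, 2, 2, 2, 0, 2, -2, -2, 2, 0],
    [2, 0, -2, 0, 0, 0, -2, 0, 0, -2, 0, 0, 0, 6, -2, 0, 0, 0, -2, 0, 0, 0, 0, 2],
    [-2, 0, 2, 0, 0, 0, 2, 0, 0, 2, 0, 0, 0, 2, 2, 0, 0, 0, 2, 0, 0, 0, 0, 6]]

theorem gen2_ok : gen2.ok = true := by decide +kernel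

/-- The three generators. -/
def genMats : List Mat := [gen0, gen1, gen2]

/-- The fifty vectors, packed. -/
def fiftyCodes : List ℕ := [
  0x488888888888888888888884,
  0x77777777b777777777777777,
  0x7777777b7777777777777777,
  0x668688888886868688868886,
  0x688688886888866888888666,
  0x688868868886868888688866,
  0x688868886888886886686886,
  0x688866868888888686868886,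
  0x688886868888886868886866,
  0x688888688688888888686666,
  0x777777b77777777777777777,
  0x7777777777b7777777777777,
  0x688886888866888888666886,
  0x688686886688888688886886,
  0x688686688888888868868686,
  0x688688888666888868888866,
  0x688888868688868668888686,
  0x668888888886886868688686,
  0x686888888686888686688886,
  0x688668888868888688688686,
  0x686666888886886888888886,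
  0x688668688688868886888886,
  0x688868888868866868868886,
  0x688888886888888668668866,
  0x688688868688886888668886,
  0x7b7777777777777777777777,
  0x686868888888888866888666,
  0x668868888688886688888866,
  0x668888888688888866866886,
  0x688888888686666888886886,
  0x688888888868868686886866,
  0x668866888888868888886686,
  0x688888888888668886668686,
  0x688668888888688888866866,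
  0x688886886886868866888886,
  0x688886888668886886888686,
  0x77b777777777777777777777,
  0x688886888886688688888666,
  0x668686888888888886688866,
  0x688868688886888668886886,
  0x688886688888866688688886,
  0x686688888888868868686886,
  0x777777777777b77777777777,
  0x688888688886886886868866,
  0x686888888888886688866686,
  0x688688868886888886886686,
  0x688868886686888888868686,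
  0x688688888888686666888886,
  0x686886888688868888868866,
  0x688866888688688868688886]

end Cfsg.Agent.H15.U35
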